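import Cfsg.Agent.Lib.AltFixed.Code
import Mathlib.GroupTheory.SpecificGroups.Alternating.Centralizer
import Mathlib.GroupTheory.Perm.ViaEmbedding
import Mathlib.GroupTheory.Perm.Fin

/-!
# An element commuting with a copy of `A₅`

Let `d₀ = p + 5`, or `9` if `p = 2`. Then `A_{d₀}` has an element of order `p` commuting with a copy of `A₅`.
-/

set_option autoImplicit false

namespace Cfsg.Lib.AltFixed

open Equiv Subgroup

/-- The even permutations of a smaller set inside those of a larger set. -/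
noncomputable def altHom {m n : ℕ} (e : Fin m ↪ Fin n) : Alt m →* Alt n :=
  ((Perm.viaEmbeddingHom e).comp (alternatingGroup (Fin m)).subtype).codRestrict _ fun a => by
    classical
    rw [Perm.mem_alternatingGroup, MonoidHom.comp_apply, Subgroup.subtype_apply, Perm.viaEmbeddingHom_apply,
      Perm.viaEmbedding]
    convert Perm.mem_alternatingGroup.1 a.2 using 1
    convert Perm.sign_extendDomain _ _

theorem altHom_injective {m n : ℕ} (e : Fin m ↪ Fin n) : Function.Injective (altHom e) := fun _ _ h =>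
  Subtype.ext (Perm.viaEmbeddingHom_injective e (congrArg Subtype.val h))

theorem altHom_apply_of_notMem {m n : ℕ} (e : Fin m ↪ Fin n) (a : Alt m) {x : Fin n} (hx : x ∉ Set.range e) :
    (altHom e a : Perm (Fin n)) x = x :=
  Perm.viaEmbedding_apply_of_notMem _ e x hx

/-- The degree. -/
def deg₀ (p : ℕ) : ℕ := if p = 2 then 9 else p + 5

theorem five_le_deg₀ (p : ℕ) : 5 ≤ deg₀ p := by
  rw [deg₀]; split_ifs <;> omega

/-- An element of order `p` of `A_{d₀}` commutes with a copy of `A₅`. -/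
theorem exists_commuting (p : ℕ) [Fact p.Prime] :
    ∃ (c : Alt (deg₀ p)) (ψ : Alt 5 →* Alt (deg₀ p)), Function.Injective ψ ∧ c ≠ 1 ∧ c ^ p = 1 ∧
      ∀ a, Commute c (ψ a) := by
  classical
  have hp := (Fact.out : p.Prime)
  let d := deg₀ p
  have hd5 : 5 ≤ d := five_le_deg₀ p
  let e : Fin 5 ↪ Fin d := ⟨fun i => ⟨d - 5 + i, by omega⟩, fun i j h => Fin.ext (by simpa using h)⟩
  have hrange : ∀ x : Fin d, (x : ℕ) < d - 5 → x ∉ Set.range e := by
    rintro x hx ⟨i, rfl⟩
    change d - 5 + (i : ℕ) < d - 5 at hx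
    omega
  -- a permutation moving only the first points
  obtain ⟨σ, hσ1, hσp, hσs, hσfix⟩ : ∃ σ : Perm (Fin d), σ ≠ 1 ∧ σ ^ p = 1 ∧ Perm.sign σ = 1 ∧
      ∀ x : Fin d, d - 5 ≤ (x : ℕ) → σ x = x := by
    by_cases hp2 : p = 2
    · subst hp2
      show ∃ σ : Perm (Fin 9), σ ≠ 1 ∧ σ ^ 2 = 1 ∧ Perm.sign σ = 1 ∧ ∀ x : Fin 9, 9 - 5 ≤ (x : ℕ) → σ x = x
      exact ⟨swap 0 1 * swap 2 3, by decide, by decide +kernel, by decide +kernel, by decide⟩
    · have hd : d = p + 5 := by simp [d, deg₀, hp2]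
      have h2 := hp.two_le
      let k : Fin d := ⟨p - 1, by omega⟩
      haveI : NeZero d := ⟨by omega⟩
      have hk : k ≠ 0 := fun e => by simp [k, Fin.ext_iff] at e; omega
      refine ⟨Fin.cycleRange k, fun e => ?_, ?_, ?_, fun x hx => ?_⟩
      · have := Fin.cycleType_cycleRange hk
        rw [e, Perm.cycleType_one] at this
        exact Multiset.singleton_ne_zero _ this.symm
      · rw [← orderOf_dvd_iff_pow_eq_one, ← Perm.lcm_cycleType, Fin.cycleType_cycleRange hk, Multiset.lcm_singleton]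
        simp only [k, normalize_eq]
        rw [show p - 1 + 1 = p by omega]
      · rw [Fin.sign_cycleRange]
        obtain ⟨m, hm⟩ := (hp.odd_of_ne_two hp2)
        simp only [k]
        rw [show p - 1 = 2 * m by omega, pow_mul, neg_one_sq, one_pow]
      · exact Fin.cycleRange_of_gt (Fin.lt_def.2 (by simp only [k]; omega))
  refine ⟨⟨σ, Perm.mem_alternatingGroup.2 hσs⟩, altHom e, altHom_injective e,
    fun h => hσ1 (congrArg Subtype.val h), Subtype.ext hσp, fun a => Subtype.ext ?_⟩
  refine Perm.Disjoint.commute (fun x => ?_)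
  by_cases hx : (x : ℕ) < d - 5
  · exact Or.inr (altHom_apply_of_notMem e a (hrange x hx))
  · exact Or.inl (hσfix x (not_lt.1 hx))

end Cfsg.Lib.AltFixed
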