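import Cfsg.Agent.Lib.AltFixed.Code
import Mathlib.Algebra.BigOperators.Group.Finset.Basic
import Mathlib.Algebra.BigOperators.Intervals

/-!
# Soundness of the certificates for fixed vectors

An even permutation group acts on a commutative group of exponent `p`. A stage certifies: if the groups with
given generators fix only the identity, then so does the group generated by the stabiliser. It uses the action on
the cosets of the stabiliser: the sums over orbits of the groups vanish, so do their translates, and a combination
of these is the unit vector.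
-/

set_option autoImplicit false

namespace Cfsg.Lib.AltFixed

universe u

theorem allN_spec {n : ℕ} {f : ℕ → Bool} (h : allN n f = true) : ∀ i < n, f i = true := by
  induction n with
  | zero => exact fun i hi => absurd hi (Nat.not_lt_zero i)
  | succ n ih =>
    change (f n && allN n f) = true at h
    rw [Bool.and_eq_true] at h
    intro i hi
    rcases Nat.lt_succ_iff_lt_or_eq.1 hi with hi | rfl
    exacts [ih h.2 i hi, h.1]

theorem getN_eq {α : Type} (d : α) : ∀ (l : List α) (k : ℕ), getN d l k = l.getD k d
  | [], _ => rfl
  | _ :: _, 0 => rfl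
  | _ :: xs, k + 1 => getN_eq d xs k

theorem memN_spec {x : ℕ} : ∀ {l : List ℕ}, memN x l = true → x ∈ l
  | [], h => Bool.noConfusion h
  | a :: xs, h => by
    change (Nat.beq a x || memN x xs) = true at h
    rw [Bool.or_eq_true] at h
    rcases h with h | h
    · rw [Nat.eq_of_beq_eq_true h]; exact List.mem_cons_self
    · exact List.mem_cons_of_mem _ (memN_spec h)

theorem allL_spec {α : Type} {f : α → Bool} : ∀ {l : List α}, allL f l = true → ∀ a ∈ l, f a = true
  | [], _ => fun a ha => by cases ha
  | a :: xs, h => by
    change (f a && allL f xs) = true at h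
    rw [Bool.and_eq_true] at h
    intro b hb
    rcases List.mem_cons.1 hb with rfl | hb
    exacts [h.1, allL_spec h.2 b hb]

theorem mapL_eq {α β : Type} (f : α → β) : ∀ l : List α, mapL f l = l.map f
  | [] => rfl
  | a :: xs => congrArg (f a :: ·) (mapL_eq f xs)

theorem mem_dropN {α : Type} {l : List α} {a : α} : ∀ {k : ℕ}, a ∈ dropN k l → a ∈ l
  | 0, h => h
  | k + 1, h => by
    refine mem_dropN (k := k) ?_
    change a ∈ List.rec (motive := fun _ => List α) [] (fun _ xs _ => xs) (dropN k l) at h
    generalize dropN k l = m at h ⊢
    cases m with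
    | nil => cases h
    | cons b bs => exact List.mem_cons_of_mem _ h

theorem fld_eq (b x i : ℕ) : fld b x i = x / 2 ^ (b * i) % 2 ^ b := by
  show (x >>> (b * i)) % (2 ^ b) = _
  rw [Nat.shiftRight_eq_div_pow]

theorem digit_sum {B : ℕ} : ∀ (m : ℕ) (c : ℕ → ℕ), (∀ j < m, c j < B) → ∀ i < m,
    (∑ j ∈ Finset.range m, c j * B ^ j) / B ^ i % B = c i
  | 0, _, _, i, hi => absurd hi (Nat.not_lt_zero i)
  | m + 1, c, hc, i, hi => by
    have hB : 0 < B := lt_of_le_of_lt (Nat.zero_le _) (hc 0 (Nat.succ_pos m))
    have e : ∑ j ∈ Finset.range (m + 1), c j * B ^ j = c 0 + B * ∑ j ∈ Finset.range m, c (j + 1) * B ^ j := by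
      rw [Finset.sum_range_succ', pow_zero, mul_one, add_comm, Finset.mul_sum]
      congr 1
      exact Finset.sum_congr rfl fun j _ => by rw [pow_succ]; ring
    cases i with
    | zero =>
      rw [pow_zero, Nat.div_one, e, Nat.add_mul_mod_self_left, Nat.mod_eq_of_lt (hc 0 (Nat.succ_pos m))]
    | succ i =>
      rw [e, pow_succ', ← Nat.div_div_eq_div_mul, Nat.add_mul_div_left _ _ hB,
        Nat.div_eq_of_lt (hc 0 (Nat.succ_pos m)), zero_add]
      exact digit_sum m (fun j => c (j + 1)) (fun j hj => hc (j + 1) (by omega)) i (by omega)

variable {n : ℕ} {V : Type u} [CommGroup V]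

/-- Only the identity is fixed by all elements of a list. -/
def Killed (ρ : Alt n →* MulAut V) (l : List (Alt n)) : Prop :=
  ∀ w : V, (∀ s ∈ l, ρ s w = w) → w = 1

namespace Stage

variable (T : Stage)

theorem chain_exists (hn : n ≤ 10) {gens : List ℕ} {l : List (Alt n)} (hl : l.map encA = gens) (P : Alt n → Prop)
    (h1 : P 1) (hg : ∀ s ∈ l, ∀ σ, P σ → P (s * σ)) {x par m : ℕ} (h0 : fld 40 x 0 = idN)
    (hc : ∀ i < m, chain gens gens.length x par i = true) :
    ∀ i < m, ∃ σ : Alt n, encA σ = fld 40 x i ∧ P σ := by
  intro i
  induction i using Nat.strong_induction_on with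
  | _ i ih =>
    intro hi
    have h := hc i hi
    simp only [chain, Bool.or_eq_true, Bool.and_eq_true] at h
    rcases h with h | ⟨⟨hj, hgl⟩, he⟩
    · rw [Nat.eq_of_beq_eq_true h]
      exact ⟨1, encA_one.trans h0.symm, h1⟩
    · obtain ⟨σ, hσ, hP⟩ := ih _ (Nat.le_of_ble_eq_true hj) (lt_trans (Nat.le_of_ble_eq_true hj) hi)
      have hgl' : Nat.shiftRight (fld 20 par i) 16 < l.length := by
        rw [← hl, List.length_map] at hgl
        exact Nat.le_of_ble_eq_true hgl
      refine ⟨l[Nat.shiftRight (fld 20 par i) 16] * σ, ?_, hg _ (List.getElem_mem hgl') _ hP⟩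
      rw [Nat.eq_of_beq_eq_true he, getN_eq, getD_map_encA hl, ← encA_mul hn, hσ,
        List.getD_eq_getElem?_getD, List.getElem?_eq_getElem hgl', Option.getD_some]

theorem addAll_spec (c : ℕ) {k : ℕ → ℕ → Bool} : ∀ (v : List ℕ) (N S : ℕ), T.addAll c v N S k = true →
    (∀ j ∈ v, j < T.size) ∧
      k (N + (v.map fun j => c * 2 ^ (18 * j)).sum) (S + c * v.length) = true
  | [], N, S, h => ⟨fun j hj => (by cases hj), by simpa using (show k N S = true from h)⟩
  | a :: xs, N, S, h => by
    change (Nat.ble (Nat.succ a) T.size && (Nat.ble N (Nat.add N 1) &&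
      T.addAll c xs (Nat.add N (Nat.shiftLeft c (Nat.mul 18 a))) (Nat.add S c) k)) = true at h
    simp only [Bool.and_eq_true] at h
    obtain ⟨hlt, -, hrest⟩ := h
    obtain ⟨h1, h2⟩ := addAll_spec c xs _ _ hrest
    refine ⟨fun j hj => ?_, ?_⟩
    · rcases List.mem_cons.1 hj with rfl | hj
      exacts [Nat.le_of_ble_eq_true hlt, h1 j hj]
    · rw [List.map_cons, List.sum_cons, List.length_cons]
      simp only [Nat.add_eq, Nat.mul_eq] at h2
      rw [show Nat.shiftLeft c (18 * a) = c * 2 ^ (18 * a) from Nat.shiftLeft_eq c (18 * a)] at h2
      rw [← add_assoc, mul_add, mul_one, add_comm (c * xs.length) c, ← add_assoc]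
      exact h2

/-- Soundness of a stage. -/
theorem killed_of_check (hn : n ≤ 10) (ρ : Alt n →* MulAut V)
    (hp : ∀ v : V, v ^ T.p = 1) (ga ra : List (Alt n)) (ka : List (List (Alt n)))
    (hga : ga.map encA = T.gens) (hra : ra.map encA = T.rgens) (hka : ka.map (fun l => l.map encA) = T.killed)
    (hk : ∀ l ∈ ka, Killed ρ l) (h : T.check = true) : Killed ρ ra := by
  classical
  intro v hv
  simp only [check, Bool.and_eq_true] at h
  obtain ⟨⟨⟨hreps, hacts⟩, hroots⟩, hrun⟩ := h
  simp only [repsOK, Bool.and_eq_true] at hreps
  obtain ⟨⟨⟨⟨hpos, hrep0⟩, hrel0⟩, hrepc⟩, hrelc⟩ := hreps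
  replace hpos : 0 < T.size := Nat.le_of_ble_eq_true hpos
  have hex := chain_exists hn hga (fun _ => True) trivial (fun _ _ _ _ => trivial)
    (Nat.eq_of_beq_eq_true hrep0) (allN_spec hrepc)
  have hfix := chain_exists hn hra (fun σ => ρ σ v = v) (by rw [map_one]; rfl)
    (fun s hs σ hσ => by rw [map_mul, MulAut.mul_apply, hσ, hv s hs]) (Nat.eq_of_beq_eq_true hrel0)
    (allN_spec hrelc)
  let φ : ℕ → V := fun i => if hi : i < T.size then ρ (hex i hi).choose v else 1
  have hφ0 : φ 0 = v := by
    simp only [φ, dif_pos hpos]
    rw [show (hex 0 hpos).choose = 1 from encA_injective hn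
      ((((hex 0 hpos).choose_spec.1).trans (Nat.eq_of_beq_eq_true hrep0)).trans encA_one.symm), map_one]
    rfl
  have hmoves : ∀ (s : Alt n) (i j k : ℕ), i < T.size → T.moves (encA s) i j k = true →
      j < T.size ∧ ρ s (φ i) = φ j := by
    intro s i j k hi hm
    simp only [moves, Bool.and_eq_true] at hm
    obtain ⟨⟨hj, hk'⟩, he⟩ := hm
    replace hj : j < T.size := Nat.le_of_ble_eq_true hj
    obtain ⟨τ, hτ, hτv⟩ := hfix k (Nat.le_of_ble_eq_true hk')
    refine ⟨hj, ?_⟩
    simp only [φ, dif_pos hi, dif_pos hj]
    have h1 : s * (hex i hi).choose = (hex j hj).choose * τ := encA_injective hn (by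
      rw [← encA_mul hn, ← encA_mul hn, (hex i hi).choose_spec.1, (hex j hj).choose_spec.1, hτ]
      exact Nat.eq_of_beq_eq_true he)
    rw [← MulAut.mul_apply, ← map_mul, h1, map_mul, MulAut.mul_apply, hτv]
  have hact : ∀ g i, g < T.gens.length → i < T.size →
      T.act g i < T.size ∧ ρ (ga.getD g 1) (φ i) = φ (T.act g i) := fun g i hg hi => by
    have := allN_spec (allN_spec hacts g hg) i hi
    rw [getN_eq, getD_map_encA hga] at this
    exact hmoves _ _ _ _ hi this
  -- the sums over the roots vanish
  have hroot : ∀ r ∈ T.roots, (∀ i ∈ r.orb, i < T.size) ∧ (r.orb.map φ).prod = 1 := by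
    intro r hr
    have h := allL_spec hroots r hr
    simp only [Bool.and_eq_true] at h
    obtain ⟨⟨hgrp, hlt⟩, hall⟩ := h
    have hlt' : ∀ i ∈ r.orb, i < T.size := fun i hi => Nat.le_of_ble_eq_true (allL_spec hlt i hi)
    refine ⟨hlt', ?_⟩
    have hg' : r.grp < ka.length := by
      rw [← hka, List.length_map] at hgrp
      exact Nat.le_of_ble_eq_true hgrp
    have hkg : getN [] T.killed r.grp = ka[r.grp].map encA := by
      rw [getN_eq, ← hka, List.getD_eq_getElem?_getD, List.getElem?_map, List.getElem?_eq_getElem hg',
        Option.map_some, Option.getD_some]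
    refine hk _ (List.getElem_mem hg') _ fun s hs => ?_
    obtain ⟨a, ha, rfl⟩ := List.getElem_of_mem hs
    have h := allN_spec hall a (by rw [hkg, List.length_map]; exact ha)
    simp only [Bool.and_eq_true] at h
    obtain ⟨hlen, hm⟩ := h
    replace hlen := Nat.eq_of_beq_eq_true hlen
    set P := getN [] r.pos a with hP
    have hrange : (List.range r.orb.length).Perm P := by
      refine (List.subperm_of_subset List.nodup_range fun m hm' => ?_).perm_of_length_le
        (by rw [List.length_range, hlen])
      have := allN_spec hm m (List.mem_range.1 hm')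
      simp only [Bool.and_eq_true] at this
      exact memN_spec this.1
    have horb : r.orb = (List.range r.orb.length).map fun m => getN 0 r.orb m := by
      refine List.ext_getElem (by simp) fun m h1 h2 => ?_
      rw [List.getElem_map, List.getElem_range, getN_eq, List.getD_eq_getElem?_getD,
        List.getElem?_eq_getElem h1, Option.getD_some]
    have hPP : P = (List.range r.orb.length).map fun m => getN 0 P m := by
      refine List.ext_getElem (by rw [List.length_map, List.length_range, hlen]) fun m h1 h2 => ?_
      rw [List.getElem_map, List.getElem_range, getN_eq, List.getD_eq_getElem?_getD,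
        List.getElem?_eq_getElem h1, Option.getD_some]
    rw [map_list_prod, List.map_map]
    calc (r.orb.map (⇑(ρ ka[r.grp][a]) ∘ φ)).prod
        = ((List.range r.orb.length).map fun m => φ (getN 0 r.orb (getN 0 P m))).prod := by
          conv_lhs => rw [horb, List.map_map]
          refine congrArg List.prod (List.map_congr_left fun m hm' => ?_)
          have hm'' := List.mem_range.1 hm'
          have := allN_spec hm m hm''
          simp only [Bool.and_eq_true] at this
          have hs : getN idN (getN [] T.killed r.grp) a = encA ka[r.grp][a] := by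
            rw [hkg, getN_eq, List.getD_eq_getElem?_getD, List.getElem?_map, List.getElem?_eq_getElem ha,
              Option.map_some, Option.getD_some]
          rw [hs] at this
          have hi : getN 0 r.orb m < T.size := by
            refine hlt' _ ?_
            rw [getN_eq, List.getD_eq_getElem?_getD, List.getElem?_eq_getElem hm'', Option.getD_some]
            exact List.getElem_mem hm''
          exact (hmoves _ _ _ _ hi this.2).2
      _ = (P.map fun m => φ (getN 0 r.orb m)).prod := by
          conv_rhs => rw [hPP, List.map_map]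
          rfl
      _ = ((List.range r.orb.length).map fun m => φ (getN 0 r.orb m)).prod :=
          ((hrange.map _).prod_eq).symm
      _ = (r.orb.map φ).prod := by
          conv_rhs => rw [horb, List.map_map]
          rfl
  -- the run
  have key : ∀ (m i : ℕ) (st : List (List ℕ)) (N S : ℕ), T.run m i st N S = true →
      (∀ l ∈ st, (∀ j ∈ l, j < T.size) ∧ (l.map φ).prod = 1) →
      ∀ E : List ℕ, (∀ j ∈ E, j < T.size) → (E.map φ).prod = 1 → N = (E.map fun j => 2 ^ (18 * j)).sum →
        S = E.length → v = 1 := by
    intro m
    induction m with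
    | zero =>
      intro i st N S h _ E hE hprod hN hS
      change T.finalOK N S = true at h
      simp only [finalOK, Bool.and_eq_true] at h
      obtain ⟨hSB, hall⟩ := h
      have hcount : ∀ j < T.size, E.count j < 262144 := fun j _ => by
        have := Nat.le_of_ble_eq_true hSB
        have := E.count_le_length (a := j)
        omega
      have hsub : E.toFinset ⊆ Finset.range T.size := fun j hj =>
        Finset.mem_range.2 (hE j (List.mem_toFinset.1 hj))
      have hN' : N = ∑ j ∈ Finset.range T.size, E.count j * 262144 ^ j := by
        rw [hN, Finset.sum_list_map_count, ← Finset.sum_subset hsub fun j _ hj => by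
          rw [List.count_eq_zero.2 (fun h => hj (List.mem_toFinset.2 h)), zero_mul]]
        refine Finset.sum_congr rfl fun j _ => ?_
        rw [smul_eq_mul, pow_mul]
        norm_num
      have hfac : ∀ j ∈ Finset.range T.size, φ j ^ E.count j = if j = 0 then φ 0 else 1 := by
        intro j hj
        have hd := allN_spec hall j (Finset.mem_range.1 hj)
        replace hd := Nat.eq_of_beq_eq_true hd
        rw [fld_eq, pow_mul, show (2 : ℕ) ^ 18 = 262144 by norm_num, hN',
          digit_sum _ _ hcount j (Finset.mem_range.1 hj)] at hd
        change E.count j % T.p = _ at hd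
        have e : φ j ^ E.count j = φ j ^ (E.count j % T.p) := by
          conv_lhs => rw [← Nat.div_add_mod (E.count j) T.p, pow_add, pow_mul, hp, one_pow, one_mul]
        rw [e, hd]
        by_cases hj0 : j = 0
        · subst hj0
          simp
        · rw [show Nat.beq j 0 = false from by cases j <;> first | exact absurd rfl hj0 | rfl, if_neg hj0]
          exact pow_zero _
      rw [Finset.prod_list_map_count, Finset.prod_subset hsub (f := fun j => φ j ^ E.count j) fun j _ hj => by
        show φ j ^ E.count j = 1
        rw [List.count_eq_zero.2 (fun h => hj (List.mem_toFinset.2 h)), pow_zero]] at hprod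
      rw [Finset.prod_congr rfl hfac, Finset.prod_ite_eq' (Finset.range T.size) 0 fun _ => φ 0,
        if_pos (Finset.mem_range.2 hpos), hφ0] at hprod
      exact hprod
    | succ m ih =>
      intro i st N S h hst E hE hprod hN hS
      have h' : T.addAll (Nat.shiftRight (fld 16 T.ops i) 10)
          (T.made (dropN (Nat.mod (fld 16 T.ops i) 32) st) (Nat.mod (Nat.shiftRight (fld 16 T.ops i) 5) 32))
          N S (fun N' S' => T.run m (Nat.succ i) (T.made (dropN (Nat.mod (fld 16 T.ops i) 32) st)
            (Nat.mod (Nat.shiftRight (fld 16 T.ops i) 5) 32) :: dropN (Nat.mod (fld 16 T.ops i) 32) st) N' S')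
          = true := h
      obtain ⟨hlt, hnext⟩ := T.addAll_spec _ _ _ _ h'
      set c := Nat.shiftRight (fld 16 T.ops i) 10
      set st' := dropN (Nat.mod (fld 16 T.ops i) 32) st
      set src := Nat.mod (Nat.shiftRight (fld 16 T.ops i) 5) 32
      set w := T.made st' src with hw
      have hst' : ∀ l ∈ st', (∀ j ∈ l, j < T.size) ∧ (l.map φ).prod = 1 := fun l hl => hst l (mem_dropN hl)
      have hwprod : (w.map φ).prod = 1 := by
        rw [hw, made]
        cases hb : Nat.ble (Nat.succ src) T.gens.length with
        | true =>
          rw [cond_true, mapL_eq, List.map_map]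
          have hg := Nat.le_of_ble_eq_true hb
          have htop : (∀ j ∈ topL st', j < T.size) ∧ ((topL st').map φ).prod = 1 := by
            cases hs : st' with
            | nil => exact ⟨fun j hj => (by cases hj), rfl⟩
            | cons l ls => exact hst' l (hs ▸ List.mem_cons_self)
          rw [List.map_congr_left (f := φ ∘ T.act src) (g := ⇑(ρ (ga.getD src 1)) ∘ φ) fun j hj =>
            ((hact src j hg (htop.1 j hj)).2).symm, ← List.map_map, ← map_list_prod, htop.2, map_one]
        | false =>
          rw [cond_false, getN_eq, List.getD_eq_getElem?_getD]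
          by_cases hb2 : Nat.sub src T.gens.length < T.roots.length
          · rw [List.getElem?_eq_getElem hb2, Option.getD_some]
            exact (hroot _ (List.getElem_mem hb2)).2
          · rw [List.getElem?_eq_none (by omega), Option.getD_none]
            rfl
      refine ih _ _ _ _ hnext (fun l hl => ?_) (E ++ w.flatMap fun j => List.replicate c j)
        (fun j hj => ?_) ?_ ?_ ?_
      · rcases List.mem_cons.1 hl with rfl | hl
        exacts [⟨hlt, hwprod⟩, hst' l hl]
      · rcases List.mem_append.1 hj with hj | hj
        · exact hE j hj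
        · obtain ⟨a, ha, hja⟩ := List.mem_flatMap.1 hj
          rw [(List.mem_replicate.1 hja).2]
          exact hlt a ha
      · rw [List.map_append, List.prod_append, hprod, one_mul, List.map_flatMap]
        clear_value w
        clear hnext hlt h' hw
        have e : ∀ l : List ℕ, ((l.flatMap fun j => List.replicate c (φ j))).prod = (l.map φ).prod ^ c := by
          intro l
          induction l with
          | nil => simp
          | cons a l ihl => simp [List.flatMap_cons, ihl, mul_pow]
        simp only [List.map_replicate]
        rw [e, hwprod, one_pow]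
      · rw [List.map_append, List.sum_append, ← hN, List.map_flatMap]
        congr 1
        clear_value w
        clear hnext hlt h' hw hwprod
        induction w with
        | nil => rfl
        | cons a l ihl => simp [List.flatMap_cons, ihl]
      · rw [List.length_append, ← hS, List.length_flatMap]
        congr 1
        simp [mul_comm]
  exact key _ _ _ _ _ hrun (fun l hl => by cases hl) [] (fun j hj => by cases hj) rfl rfl rfl

end Stage

end Cfsg.Lib.AltFixed
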