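import Mathlib.Algebra.Group.End

/-!
# Evaluation for the certificates

Permutations of at most ten points are packed, four binary digits for each value. The functions are written with
recursors and numeral operations only, so that the kernel evaluates them quickly.
-/

set_option autoImplicit false

namespace Cfsg.Lib.AltFixed

/-- A digit of a packed permutation. -/
def nib (a k : ℕ) : ℕ := Nat.mod (Nat.shiftRight a (Nat.mul 4 k)) 16

/-- Ten digits packed. -/
def pack (f : ℕ → ℕ) : ℕ :=
  Nat.add (f 0) (Nat.mul 16 (Nat.add (f 1) (Nat.mul 16 (Nat.add (f 2) (Nat.mul 16 (Nat.add (f 3) (Nat.mul 16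
    (Nat.add (f 4) (Nat.mul 16 (Nat.add (f 5) (Nat.mul 16 (Nat.add (f 6) (Nat.mul 16 (Nat.add (f 7) (Nat.mul 16
      (Nat.add (f 8) (Nat.mul 16 (f 9))))))))))))))))))

/-- Composition. -/
def compN (a b : ℕ) : ℕ := pack fun k => nib a (nib b k)

/-- The identity. -/
def idN : ℕ := 0x9876543210

/-- A field of a packed table. -/
def fld (b x i : ℕ) : ℕ := Nat.mod (Nat.shiftRight x (Nat.mul b i)) (Nat.pow 2 b)

/-- A condition for all numbers below a bound. -/
noncomputable def allN (n : ℕ) (f : ℕ → Bool) : Bool := Nat.rec true (fun i ih => f i && ih) n

/-- An element of a list. -/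
noncomputable def getN {α : Type} (d : α) (l : List α) : ℕ → α :=
  List.rec (motive := fun _ => ℕ → α) (fun _ => d)
    (fun a _ ih k => Nat.rec (motive := fun _ => α) a (fun j _ => ih j) k) l

/-- Membership. -/
noncomputable def memN (x : ℕ) (l : List ℕ) : Bool :=
  List.rec (motive := fun _ => Bool) false (fun a _ ih => Nat.beq a x || ih) l

/-- A condition for all elements of a list. -/
noncomputable def allL {α : Type} (f : α → Bool) (l : List α) : Bool :=
  List.rec (motive := fun _ => Bool) true (fun a _ ih => f a && ih) l

/-- The image of a list. -/
noncomputable def mapL {α β : Type} (f : α → β) (l : List α) : List β :=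
  List.rec (motive := fun _ => List β) [] (fun a _ ih => f a :: ih) l

/-- A tail of a list. -/
noncomputable def dropN {α : Type} (k : ℕ) (l : List α) : List α :=
  Nat.rec (motive := fun _ => List α) l
    (fun _ ih => List.rec (motive := fun _ => List α) [] (fun _ xs _ => xs) ih) k

/-- The first element of a list of lists. -/
noncomputable def topL {α : Type} (l : List (List α)) : List α :=
  List.rec (motive := fun _ => List α) [] (fun a _ _ => a) l

/-- A root: a group, one of its orbits, and for each generator the positions of the images and witnesses. -/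
structure Root where
  /-- The group. -/
  grp : ℕ
  /-- The orbit. -/
  orb : List ℕ
  /-- The positions of the images. -/
  pos : List (List ℕ)
  /-- The witnesses in the stabiliser. -/
  wit : List (List ℕ)

/-- The data of a stage. -/
structure Stage where
  /-- The characteristic. -/
  p : ℕ
  /-- The number of cosets. -/
  size : ℕ
  /-- The acting generators. -/
  gens : List ℕ
  /-- The action of each generator, sixteen digits an entry. -/
  acts : List ℕ
  /-- The witnesses in the stabiliser, sixteen digits an entry. -/
  wits : List ℕ
  /-- The representatives, forty digits an entry. -/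
  reps : ℕ
  /-- The predecessors: generator times `65536` plus an earlier index; twenty digits an entry. -/
  pars : ℕ
  /-- The generators of the stabiliser. -/
  rgens : List ℕ
  /-- The order of the stabiliser. -/
  rsize : ℕ
  /-- The elements of the stabiliser. -/
  relts : ℕ
  /-- Their predecessors. -/
  rpars : ℕ
  /-- The generators of the groups without fixed vectors. -/
  killed : List (List ℕ)
  /-- The roots. -/
  roots : List Root
  /-- The number of operations. -/
  opsize : ℕ
  /-- The operations: sixteen digits each; five for the depth dropped, five for the source, three for the weight. -/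
  ops : ℕ

namespace Stage

variable (T : Stage)

/-- A representative. -/
def rep (i : ℕ) : ℕ := fld 40 T.reps i

/-- An element of the stabiliser. -/
def relt (k : ℕ) : ℕ := fld 40 T.relts k

/-- The action of a generator. -/
noncomputable def act (g i : ℕ) : ℕ := fld 16 (getN 0 T.acts g) i

/-- A packed element is reached from an earlier one. -/
noncomputable def chain (gens : List ℕ) (len : ℕ) (x par : ℕ) (i : ℕ) : Bool :=
  let e := fld 20 par i
  let g := Nat.shiftRight e 16
  let j := Nat.mod e 65536
  Nat.beq i 0 || (Nat.ble (Nat.succ j) i && Nat.ble (Nat.succ g) len &&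
    Nat.beq (fld 40 x i) (compN (getN idN gens g) (fld 40 x j)))

/-- An element carries one coset to another. -/
noncomputable def moves (s i j k : ℕ) : Bool :=
  Nat.ble (Nat.succ j) T.size && Nat.ble (Nat.succ k) T.rsize &&
    Nat.beq (compN s (T.rep i)) (compN (T.rep j) (T.relt k))

/-- The representatives are products of generators. -/
noncomputable def repsOK : Bool :=
  Nat.ble 1 T.size && Nat.beq (T.rep 0) idN && Nat.beq (T.relt 0) idN &&
    allN T.size (chain T.gens T.gens.length T.reps T.pars) &&
    allN T.rsize (chain T.rgens T.rgens.length T.relts T.rpars)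

/-- The tables describe the action on cosets. -/
noncomputable def actsOK : Bool :=
  allN T.gens.length fun g => allN T.size fun i =>
    T.moves (getN idN T.gens g) i (T.act g i) (fld 16 (getN 0 T.wits g) i)

/-- The roots are orbits. -/
noncomputable def rootsOK : Bool :=
  allL (fun r : Root => Nat.ble (Nat.succ r.grp) T.killed.length &&
    allL (fun i => Nat.ble (Nat.succ i) T.size) r.orb &&
    allN (getN [] T.killed r.grp).length fun a =>
      let pos := getN [] r.pos a
      let wit := getN [] r.wit a
      let s := getN idN (getN [] T.killed r.grp) a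
      Nat.beq pos.length r.orb.length && allN r.orb.length fun m => memN m pos &&
        T.moves s (getN 0 r.orb m) (getN 0 r.orb (getN 0 pos m)) (getN 0 wit m)) T.roots

/-- Adding a list with a weight. -/
noncomputable def addAll (c : ℕ) (v : List ℕ) : ℕ → ℕ → (ℕ → ℕ → Bool) → Bool :=
  List.rec (motive := fun _ => ℕ → ℕ → (ℕ → ℕ → Bool) → Bool) (fun N S k => k N S)
    (fun j _ ih N S k => Nat.ble (Nat.succ j) T.size &&
      (Nat.ble N (Nat.add N 1) && ih (Nat.add N (Nat.shiftLeft c (Nat.mul 18 j))) (Nat.add S c) k)) v

/-- The list made by one operation. -/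
noncomputable def made (st : List (List ℕ)) (src : ℕ) : List ℕ :=
  cond (Nat.ble (Nat.succ src) T.gens.length) (mapL (T.act src) (topL st))
    (getN ⟨0, [], [], []⟩ T.roots (Nat.sub src T.gens.length)).orb

/-- The digits are those of the unit vector. -/
noncomputable def finalOK (N S : ℕ) : Bool :=
  Nat.ble S 262143 && allN T.size fun j => Nat.beq (Nat.mod (fld 18 N j) T.p) (cond (Nat.beq j 0) 1 0)

/-- Running the operations. -/
noncomputable def run : ℕ → ℕ → List (List ℕ) → ℕ → ℕ → Bool :=
  Nat.rec (motive := fun _ => ℕ → List (List ℕ) → ℕ → ℕ → Bool) (fun _ _ N S => T.finalOK N S)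
    fun _ ih i st N S =>
      let e := fld 16 T.ops i
      let st' := dropN (Nat.mod e 32) st
      let v := T.made st' (Nat.mod (Nat.shiftRight e 5) 32)
      T.addAll (Nat.shiftRight e 10) v N S fun N' S' => ih (Nat.succ i) (v :: st') N' S'

/-- All checks. -/
noncomputable def check : Bool := T.repsOK && T.actsOK && T.rootsOK && T.run T.opsize 0 [] 0 0

end Stage

end Cfsg.Lib.AltFixed
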