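import Mathlib.GroupTheory.SpecificGroups.Alternating
import Cfsg.Agent.Lib.AltFixed.Eval

/-!
# Packed even permutations

An even permutation of at most ten points is packed into a number; composition becomes `compN`.
-/

set_option autoImplicit false

namespace Cfsg.Lib.AltFixed

open Equiv

variable {n : ℕ}

/-- The values of a permutation, extended by the identity. -/
def val (σ : Perm (Fin n)) (k : ℕ) : ℕ := if h : k < n then (σ ⟨k, h⟩).val else k

/-- The packed permutation. -/
def enc (σ : Perm (Fin n)) : ℕ := pack (val σ)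

/-- The elements of the alternating group, as a type. -/
abbrev Alt (n : ℕ) : Type := alternatingGroup (Fin n)

/-- The packed even permutation. -/
abbrev encA (a : Alt n) : ℕ := enc (a : Perm (Fin n))

theorem nib_eq (a k : ℕ) : nib a k = a / 2 ^ (4 * k) % 16 := by
  show (a >>> (4 * k)) % 16 = _
  rw [Nat.shiftRight_eq_div_pow]

theorem nib_pack (f : ℕ → ℕ) (hf : ∀ j < 10, f j < 16) {k : ℕ} (hk : k < 10) : nib (pack f) k = f k := by
  have h0 := hf 0 (by norm_num); have h1 := hf 1 (by norm_num); have h2 := hf 2 (by norm_num)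
  have h3 := hf 3 (by norm_num); have h4 := hf 4 (by norm_num); have h5 := hf 5 (by norm_num)
  have h6 := hf 6 (by norm_num); have h7 := hf 7 (by norm_num); have h8 := hf 8 (by norm_num)
  have h9 := hf 9 (by norm_num)
  rw [nib_eq]
  simp only [pack, Nat.add_eq, Nat.mul_eq]
  interval_cases k <;> norm_num <;> omega

theorem pack_congr {f g : ℕ → ℕ} (h : ∀ k < 10, f k = g k) : pack f = pack g := by
  simp only [pack, h 0 (by norm_num), h 1 (by norm_num), h 2 (by norm_num), h 3 (by norm_num), h 4 (by norm_num),
    h 5 (by norm_num), h 6 (by norm_num), h 7 (by norm_num), h 8 (by norm_num), h 9 (by norm_num)]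

theorem val_lt (hn : n ≤ 10) (σ : Perm (Fin n)) {k : ℕ} (hk : k < 10) : val σ k < 10 := by
  rw [val]
  split_ifs with h
  · exact lt_of_lt_of_le (Fin.is_lt _) hn
  · exact hk

theorem nib_enc (hn : n ≤ 10) (σ : Perm (Fin n)) {k : ℕ} (hk : k < 10) : nib (enc σ) k = val σ k :=
  nib_pack _ (fun _ hj => lt_trans (val_lt hn σ hj) (by norm_num)) hk

theorem enc_mul (hn : n ≤ 10) (σ τ : Perm (Fin n)) : compN (enc σ) (enc τ) = enc (σ * τ) := by
  refine pack_congr fun k hk => ?_
  show nib (enc σ) (nib (enc τ) k) = _
  rw [nib_enc hn τ hk, nib_enc hn σ (val_lt hn τ hk)]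
  by_cases h : k < n
  · simp only [val, dif_pos h, dif_pos (τ ⟨k, h⟩).is_lt]
    rfl
  · simp only [val, dif_neg h]

theorem enc_one : enc (1 : Perm (Fin n)) = idN := by
  rw [enc, pack_congr (g := fun k => k) fun k _ => by unfold val; split_ifs <;> rfl]
  rfl

theorem enc_injective (hn : n ≤ 10) : Function.Injective (enc : Perm (Fin n) → ℕ) := fun σ τ h => by
  refine Equiv.ext fun i => Fin.ext ?_
  have hi : (i : ℕ) < 10 := lt_of_lt_of_le i.is_lt hn
  have e := nib_enc hn σ hi
  rw [h, nib_enc hn τ hi] at e
  simpa [val] using e.symm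

theorem encA_mul (hn : n ≤ 10) (a b : Alt n) : compN (encA a) (encA b) = encA (a * b) := enc_mul hn _ _

theorem encA_one : encA (1 : Alt n) = idN := enc_one

theorem encA_injective (hn : n ≤ 10) : Function.Injective (encA : Alt n → ℕ) := fun _ _ h =>
  Subtype.ext (enc_injective hn h)

theorem getD_map_encA {l : List (Alt n)} {g : List ℕ} (hl : l.map encA = g) (j : ℕ) :
    g.getD j idN = encA (l.getD j 1) := by
  subst hl
  simp only [List.getD_eq_getElem?_getD, List.getElem?_map]
  cases l[j]? <;> [exact encA_one.symm; rfl]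

/-- A product of generators with given indices. -/
def evalWord (g : List (Alt n)) (w : List ℕ) : Alt n := (w.map fun j => g.getD j 1).prod

/-- The packed product of generators with given indices. -/
def evalCode (g : List ℕ) (w : List ℕ) : ℕ := w.foldr (fun j acc => compN (g.getD j idN) acc) idN

theorem encA_evalWord (hn : n ≤ 10) {g : List (Alt n)} {c : List ℕ} (hl : g.map encA = c) (w : List ℕ) :
    encA (evalWord g w) = evalCode c w := by
  induction w with
  | nil => exact encA_one
  | cons j w ih =>
    rw [evalWord, List.map_cons, List.prod_cons, ← encA_mul hn, ← evalWord, ih, ← getD_map_encA hl]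
    rfl

end Cfsg.Lib.AltFixed
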