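import Cfsg.Agent.Lib.AltFixed.Code
import Mathlib.GroupTheory.Commutator.Basic

/-!
# Perfect groups given by generators
-/

set_option autoImplicit false

namespace Cfsg.Lib.AltFixed

open Equiv Subgroup
open scoped commutatorElement

/-- Each generator is written as a product of commutators of words; the words come with their inverses. -/
def perfectOK (g : List ℕ) (cert : List (List (List ℕ × List ℕ × List ℕ × List ℕ))) : Bool :=
  (g.length == cert.length) && (g.any fun l => l != idN) &&
    (g.zip cert).all fun z =>
      (z.2.all fun c => (evalCode g (c.1 ++ c.2.1) == idN) &&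
        (evalCode g (c.2.2.1 ++ c.2.2.2) == idN)) &&
      (evalCode g (z.2.flatMap fun c => c.1 ++ c.2.2.1 ++ c.2.1 ++ c.2.2.2) == z.1)

theorem perfect_of_check {n : ℕ} (l : List (Alt n)) {g : List ℕ}
    {cert : List (List (List ℕ × List ℕ × List ℕ × List ℕ))} (hn : n ≤ 10) (hl : l.map encA = g)
    (h : perfectOK g cert = true) :
    ⁅closure {s | s ∈ l}, closure {s | s ∈ l}⁆ = closure {s | s ∈ l} ∧ closure {s : Alt n | s ∈ l} ≠ ⊥ := by
  subst hl
  simp only [perfectOK, Bool.and_eq_true, beq_iff_eq, List.any_eq_true, List.all_eq_true, bne_iff_ne, ne_eq,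
    List.length_map] at h
  obtain ⟨⟨hlen, m, hm, hm1⟩, hcert⟩ := h
  obtain ⟨s, hs, rfl⟩ := List.mem_map.1 hm
  set S := closure {s : Alt n | s ∈ l}
  have hword : ∀ w : List ℕ, evalWord l w ∈ S := by
    intro w
    induction w with
    | nil => exact one_mem _
    | cons j w ih =>
      rw [show evalWord l (j :: w) = l.getD j 1 * evalWord l w from List.prod_cons]
      refine mul_mem ?_ ih
      by_cases hj : j < l.length
      · rw [List.getD_eq_getElem?_getD, List.getElem?_eq_getElem hj, Option.getD_some]
        exact subset_closure (List.getElem_mem hj)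
      · rw [List.getD_eq_getElem?_getD, List.getElem?_eq_none (by omega), Option.getD_none]
        exact one_mem _
  have happ : ∀ u w : List ℕ, evalWord l (u ++ w) = evalWord l u * evalWord l w := fun u w => by
    rw [evalWord, List.map_append, List.prod_append]; rfl
  have hinv : ∀ {u w : List ℕ}, evalCode (l.map encA) (u ++ w) = idN →
      evalWord l w = (evalWord l u)⁻¹ := fun {u w} e => by
    refine eq_inv_of_mul_eq_one_right (encA_injective hn ?_)
    rw [← happ, encA_evalWord hn rfl, e]
    exact encA_one.symm
  refine ⟨le_antisymm (commutator_le.2 fun a ha b hb => by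
    rw [commutatorElement_def]
    exact mul_mem (mul_mem (mul_mem ha hb) (inv_mem ha)) (inv_mem hb)) ((closure_le _).2 fun t ht => ?_), fun e => ?_⟩
  · obtain ⟨k, hk, rfl⟩ := List.getElem_of_mem ht
    have hk2 : k < cert.length := hlen ▸ hk
    obtain ⟨hc1, hc2⟩ := hcert ((l.map encA)[k]'(by simpa using hk), cert[k])
      (List.mem_iff_getElem.2 ⟨k, by simp [hk, hk2], by simp⟩)
    simp only [List.getElem_map] at hc1 hc2
    have e : l[k] = evalWord l (cert[k].flatMap fun c => c.1 ++ c.2.2.1 ++ c.2.1 ++ c.2.2.2) :=
      encA_injective hn (by rw [encA_evalWord hn rfl]; exact hc2.symm)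
    rw [SetLike.mem_coe, e]
    clear e hc2
    generalize cert[k] = L at hc1 ⊢
    induction L with
    | nil => exact one_mem _
    | cons c cs ih =>
      obtain ⟨h1, h2⟩ := hc1 c List.mem_cons_self
      rw [List.flatMap_cons, happ]
      refine mul_mem ?_ (ih fun x hx => hc1 x (List.mem_cons_of_mem _ hx))
      rw [happ, happ, happ, hinv h1, hinv h2, ← commutatorElement_def]
      exact commutator_mem_commutator (hword _) (hword _)
  · refine hm1 ?_
    have h1 : s ∈ S := subset_closure hs
    rw [e, mem_bot] at h1
    rw [h1]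
    exact encA_one

end Cfsg.Lib.AltFixed
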