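import Cfsg.Agent.Lib.AltFixed.Alt
import Cfsg.Agent.Lib.Coprime.Action
import Mathlib.GroupTheory.Frattini
import Mathlib.GroupTheory.Nilpotent
import Mathlib.GroupTheory.IsPerfect

/-!
# Soluble centralisers and a minimal preimage of an alternating group

If the centralisers of the noncentral `p`-elements are soluble, then, given fixed vectors with non-soluble
stabilisers in modules or coprimality of `p` to `60`, there is no surjection to `A_{d₀}`.
-/

set_option autoImplicit false

namespace Cfsg.Lib.AltFixed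

open Subgroup
open scoped commutatorElement

universe u

variable {G : Type u} [Group G]

/-- The centralisers of noncentral `p`-elements are soluble. -/
def Good (p : ℕ) (G : Type u) [Group G] : Prop :=
  ∀ x : G, x ∉ center G → (∃ k : ℕ, orderOf x = p ^ k) → Group.IsSolvable (centralizer ({x} : Set G))

/-- Modules have nonidentity vectors fixed by nontrivial perfect subgroups. -/
def HasPerfectFixed (p : ℕ) (A : Type) [Group A] : Prop :=
  ∀ (V : Type u) [CommGroup V] [Finite V] [Nontrivial V] (ρ : A →* MulAut V), (∀ v : V, v ^ p = 1) →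
    ∃ w : V, w ≠ 1 ∧ ∃ S : Subgroup A, S ≠ ⊥ ∧ ⁅S, S⁆ = S ∧ ∀ s ∈ S, ρ s w = w

theorem not_isSolvable_of_le [Finite G] {D H : Subgroup G} (hD : ⁅D, D⁆ = D) (hD1 : D ≠ ⊥) (hDH : D ≤ H) :
    ¬ Group.IsSolvable H := fun h => by
  haveI := Cfsg.Lib.Coprime.isSolvable_of_le hDH h
  have h1 : commutator D = ⊤ := by
    rw [← map_subtype_inj, map_subtype_commutator, ← MonoidHom.range_eq_map, range_subtype, hD]
  haveI := (nontrivial_iff_ne_bot D).2 hD1
  exact (Group.IsSolvable.commutator_lt_top_of_nontrivial D).ne h1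

/-- A perfect subgroup acting by central commutators centralises. -/
theorem le_centralizer_of_perfect {D : Subgroup G} (hD : ⁅D, D⁆ = D) {x : G}
    (hx : ∀ d ∈ D, ⁅d, x⁆ ∈ center G) : D ≤ centralizer ({x} : Set G) := by
  let χ : D →* center G := MonoidHom.mk' (fun d => ⟨⁅(d : G), x⁆, hx d d.2⟩) fun a b => Subtype.ext (by
    have hb := mem_center_iff.1 (hx b b.2)
    show ⁅(a : G) * b, x⁆ = ⁅(a : G), x⁆ * ⁅(b : G), x⁆
    rw [commutatorElement_def, commutatorElement_def (a : G)]
    calc (a : G) * b * x * ((a : G) * b)⁻¹ * x⁻¹ = a * (⁅(b : G), x⁆ * x) * (a : G)⁻¹ * x⁻¹ := by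
          rw [commutatorElement_def]; group
      _ = (a : G) * x * (a : G)⁻¹ * x⁻¹ * ⁅(b : G), x⁆ := by
          generalize ⁅(b : G), x⁆ = z at hb ⊢
          rw [show (a : G) * (z * x) = a * x * z by rw [← hb x, mul_assoc],
            mul_assoc _ z (a : G)⁻¹, ← hb (a : G)⁻¹, ← mul_assoc, mul_assoc _ z x⁻¹, ← hb x⁻¹, ← mul_assoc])
  intro d hd
  have h1 : (⟨d, hd⟩ : D) ∈ commutator D := by
    have e : (commutator D).map D.subtype = D := by rw [map_subtype_commutator, hD]
    obtain ⟨y, hy, hyd⟩ := e.ge hd
    rwa [show (⟨d, hd⟩ : D) = y from Subtype.ext hyd.symm]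
  have h2 : χ ⟨d, hd⟩ = 1 := by
    letI : CommGroup (center G) := { (inferInstance : Group (center G)) with
      mul_comm := fun a b => Subtype.ext ((mem_center_iff.1 a.2 b).symm) }
    exact MonoidHom.mem_ker.1 (Abelianization.commutator_subset_ker χ h1)
  rw [mem_centralizer_singleton_iff]
  exact commutatorElement_eq_one_iff_mul_comm.1 (congrArg Subtype.val h2)

/-- A perfect subgroup of the image is the image of a perfect subgroup. -/
theorem exists_perfect_preimage [Finite G] {A : Type*} [Group A] {f : G →* A} (hf : Function.Surjective f)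
    {S : Subgroup A} (hS : ⁅S, S⁆ = S) : ∃ D : Subgroup G, ⁅D, D⁆ = D ∧ D.map f = S := by
  obtain ⟨D, hD, hmin⟩ := (Set.toFinite {D : Subgroup G | D.map f = S}).exists_minimal
    ⟨S.comap f, map_comap_eq_self_of_surjective hf S⟩
  have h1 : ⁅D, D⁆ ≤ D := commutator_le.2 fun a ha b hb => by
    rw [commutatorElement_def]
    exact mul_mem (mul_mem (mul_mem ha hb) (inv_mem ha)) (inv_mem hb)
  have h2 : (⁅D, D⁆).map f = S := by
    rw [map_commutator, show D.map f = S from hD, hS]
  exact ⟨D, le_antisymm h1 (hmin h2 h1), hD⟩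

/-- The hypothesis passes to subgroups. -/
theorem Good.subgroup {p : ℕ} (h : Good p G) (H : Subgroup G) : Good p H := by
  intro x hx hk
  haveI := h (x : G) (fun hc => hx (mem_center_iff.2 fun g => Subtype.ext (mem_center_iff.1 hc g)))
    (by rw [orderOf_coe]; exact hk)
  refine Group.isSolvable_of_isSolvable_injective (f := ((H.subtype).comp
    (centralizer ({x} : Set H)).subtype).codRestrict (centralizer ({(x : G)} : Set G)) fun y => ?_) ?_
  · exact mem_centralizer_singleton_iff.2 (congrArg Subtype.val (mem_centralizer_singleton_iff.1 y.2))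
  · intro a b e
    rw [Subtype.ext_iff] at e
    exact Subtype.ext (Subtype.ext e)

/-- The hypothesis passes to quotients by normal subgroups of order prime to `p`. -/
theorem Good.quotient [Finite G] {p : ℕ} [hp : Fact p.Prime] (h : Good p G) (O : Subgroup G) [O.Normal]
    (hO : (Nat.card O).Coprime p) : Good p (G ⧸ O) := by
  intro y hy hk
  obtain ⟨k, hk⟩ := hk
  obtain ⟨x₀, hx₀⟩ := QuotientGroup.mk_surjective y
  -- a lift of order a power of `p`
  obtain ⟨x, hxy, j, hj⟩ : ∃ x : G, (x : G ⧸ O) = y ∧ ∃ j, orderOf x = p ^ j := by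
    let m := Nat.card O
    have hm : (p ^ k).Coprime m := (hO.pow_right k).symm
    have hk0 : 1 < p ^ k := by
      refine Nat.one_lt_pow (fun e => hy ?_) hp.out.one_lt
      subst e
      rw [orderOf_eq_one_iff.1 (hk.trans (pow_zero p))]
      exact one_mem _
    obtain ⟨i, -, hi⟩ := Nat.exists_mul_mod_eq_one_of_coprime hm.symm hk0
    refine ⟨x₀ ^ (m * i), ?_, ?_⟩
    · rw [QuotientGroup.mk_pow, hx₀, ← pow_mod_orderOf, hk, hi, pow_one]
    · have h1 : (x₀ ^ (p ^ k)) ∈ O := by
        rw [← QuotientGroup.eq_one_iff, QuotientGroup.mk_pow, hx₀, ← hk, pow_orderOf_eq_one]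
      have h2 : (x₀ ^ (m * i)) ^ (p ^ k) = 1 := by
        rw [← pow_mul, show m * i * p ^ k = p ^ k * m * i by ring, pow_mul, pow_mul]
        rw [show (x₀ ^ p ^ k) ^ m = 1 from by
          have := congrArg Subtype.val (pow_card_eq_one' (x := (⟨_, h1⟩ : O)))
          rw [Subgroup.coe_pow] at this
          exact this, one_pow]
      obtain ⟨j, -, hj⟩ := (Nat.dvd_prime_pow hp.out).1 (orderOf_dvd_of_pow_eq_one h2)
      exact ⟨j, hj⟩
  have hxc : x ∉ center G := fun hc => hy (by
    rw [← hxy]
    exact mem_center_iff.2 fun g => QuotientGroup.induction_on g fun g => by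
      rw [← QuotientGroup.mk_mul, ← QuotientGroup.mk_mul, mem_center_iff.1 hc g])
  haveI := h x hxc ⟨j, hj⟩
  have hcop : (Nat.card (zpowers x)).Coprime (Nat.card O) := by
    rw [Nat.card_zpowers, hj]
    exact (hO.pow_right j).symm
  have hsub : centralizer ({y} : Set (G ⧸ O)) ≤ (centralizer ({x} : Set G)).map (QuotientGroup.mk' O) := by
    intro z hz
    obtain ⟨w, rfl⟩ := QuotientGroup.mk_surjective z
    rw [mem_centralizer_singleton_iff, ← hxy, ← QuotientGroup.mk_mul, ← QuotientGroup.mk_mul] at hz
    have hO2 : w * x * w⁻¹ * x⁻¹ ∈ O := by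
      rw [← QuotientGroup.eq_one_iff, QuotientGroup.mk_mul, QuotientGroup.mk_mul, hz, QuotientGroup.mk_mul,
        QuotientGroup.mk_inv, QuotientGroup.mk_inv]
      group
    have hB : (zpowers x).map (MulAut.conj w).toMonoidHom ≤ O ⊔ zpowers x := by
      rw [MonoidHom.map_zpowers, zpowers_le]
      simp only [MulEquiv.coe_toMonoidHom, MulAut.conj_apply]
      rw [show w * x * w⁻¹ = (w * x * w⁻¹ * x⁻¹) * x by group]
      exact mul_mem_sup hO2 (mem_zpowers x)
    obtain ⟨n, hn, hBn⟩ := Cfsg.Lib.Coprime.exists_conj_of_coprime O (zpowers x)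
      ((zpowers x).map (MulAut.conj w).toMonoidHom) le_normalizer_of_normal hcop
      (Or.inl (by letI := IsCyclic.commGroup (α := zpowers x); infer_instance)) hB (Cfsg.Lib.Coprime.card_map_conj _ _)
    refine ⟨n⁻¹ * w, ?_, ?_⟩
    · have h1 : w * x * w⁻¹ ∈ (zpowers x).map (MulAut.conj n).toMonoidHom :=
        hBn ▸ mem_map_of_mem _ (mem_zpowers x)
      obtain ⟨a, ha, hae⟩ := h1
      simp only [MulEquiv.coe_toMonoidHom, MulAut.conj_apply] at hae
      have hconj : n⁻¹ * w * x * (n⁻¹ * w)⁻¹ = a := by
        rw [show n⁻¹ * w * x * (n⁻¹ * w)⁻¹ = n⁻¹ * (w * x * w⁻¹) * n by group, ← hae]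
        group
      have hd : a * x⁻¹ ∈ O := by
        rw [← hconj, ← QuotientGroup.eq_one_iff]
        simp only [QuotientGroup.mk_mul, QuotientGroup.mk_inv, (QuotientGroup.eq_one_iff n).2 hn, inv_one,
          one_mul, mul_one]
        rw [← QuotientGroup.mk_mul, hz, QuotientGroup.mk_mul]
        group
      have hdisj := Cfsg.Lib.Coprime.disjoint_of_coprime_card hcop
      have := Subgroup.disjoint_def.1 hdisj (mul_mem ha (inv_mem (mem_zpowers x))) hd
      rw [SetLike.mem_coe, mem_centralizer_singleton_iff]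
      rw [mul_inv_eq_one] at this
      rw [this] at hconj
      exact mul_inv_eq_iff_eq_mul.1 hconj
    · show ((n⁻¹ * w : G) : G ⧸ O) = w
      rw [QuotientGroup.mk_mul, QuotientGroup.mk_inv, (QuotientGroup.eq_one_iff n).2 hn, inv_one, one_mul]
  refine Cfsg.Lib.Coprime.isSolvable_of_le hsub ?_
  exact Group.isSolvable_of_surjective ((QuotientGroup.mk' O).subgroupMap_surjective _)

/-- The proof in the minimal case: the kernel is a `p`-group. -/
theorem not_good_of_pGroup_ker [Finite G] {p : ℕ} [hp : Fact p.Prime] {A : Type} [Group A]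
    (f : G →* A) (hf : Function.Surjective f) (hN : IsPGroup p f.ker) (hA : center A = ⊥)
    {c : A} (hc : c ≠ 1) (hcp : c ^ p = 1) (ψ : Alt 5 →* A) (hψ : Function.Injective ψ)
    (hcomm : ∀ a, Commute c (ψ a)) (hcase : Nat.Coprime p 60 ∨ HasPerfectFixed.{u} p A) : ¬ Good p G := by
  classical
  intro hgood
  have hfix : ∀ {x : G} {S : Subgroup A}, x ∉ center G → (∃ k, orderOf x = p ^ k) → S ≠ ⊥ → ⁅S, S⁆ = S →
      (∀ D : Subgroup G, D.map f = S → ∀ d ∈ D, ⁅d, x⁆ ∈ center G) → False := by
    intro x S hx hk hS1 hS hall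
    obtain ⟨D, hD, hDS⟩ := exists_perfect_preimage hf hS
    refine not_isSolvable_of_le hD (fun e => hS1 ?_) (le_centralizer_of_perfect hD (hall D hDS)) (hgood x hx hk)
    rw [← hDS, e, Subgroup.map_bot]
  -- the copy of A₅
  have hψ1 : ψ.range ≠ ⊥ := by
    intro e
    haveI := alternatingGroup.nontrivial_of_three_le_card (α := Fin 5) (by simp)
    obtain ⟨a, ha⟩ := exists_ne (1 : Alt 5)
    refine ha (hψ ?_)
    rw [map_one, ← mem_bot, ← e]
    exact ⟨a, rfl⟩
  have hψp : ⁅ψ.range, ψ.range⁆ = ψ.range := by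
    rw [MonoidHom.range_eq_map, ← map_commutator, ← commutator_def, commutator_alternatingGroup_eq_top (by simp)]
  obtain ⟨x, hx⟩ := hf c
  have hlift : ∀ {y : G}, f y = c → y ∉ center G ∧ ∃ k, orderOf y = p ^ k := by
    intro y hy
    refine ⟨fun h => hc ?_, ?_⟩
    · have : c ∈ center A := mem_center_iff.2 fun a => by
        obtain ⟨g, rfl⟩ := hf a
        rw [← hy, ← map_mul, ← map_mul, mem_center_iff.1 h g]
      rwa [hA, mem_bot] at this
    · obtain ⟨k, hk⟩ := hN ⟨y ^ p, by rw [MonoidHom.mem_ker, map_pow, hy, hcp]⟩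
      have hk' : (y ^ p) ^ p ^ k = 1 := by simpa using congrArg Subtype.val hk
      rw [← pow_mul, ← pow_succ'] at hk'
      obtain ⟨j, -, hj⟩ := (Nat.dvd_prime_pow hp.out).1 (orderOf_dvd_of_pow_eq_one hk')
      exact ⟨j, hj⟩
  rcases hcase with hcop | hmod
  · -- a complement of the kernel acts on the preimage of the cyclic group
    have hker : f.ker ≤ ψ.range.comap f := fun g hg => by
      rw [mem_comap, MonoidHom.mem_ker.1 hg]
      exact one_mem _
    obtain ⟨t, ht⟩ := hN.exists_card_eq
    have hcard60 : Nat.card (Alt 5) = 60 := by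
      haveI : Nontrivial (Fin 5) := inferInstance
      rw [nat_card_alternatingGroup, Nat.card_fin]; rfl
    have hrel : f.ker.relIndex (ψ.range.comap f) = 60 := by
      rw [← MonoidHom.comap_bot, relIndex_comap, map_comap_eq_self_of_surjective hf, relIndex_bot_left,
        ← hcard60]
      exact (Nat.card_congr (MonoidHom.ofInjective hψ).toEquiv).symm
    obtain ⟨B, hBle, hBcard, hBsup⟩ := Cfsg.Lib.Coprime.exists_complement_of_coprime hker
      le_normalizer_of_normal (by rw [hrel, ht]; exact Nat.Coprime.pow_left t hcop)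
    rw [hrel] at hBcard
    set T := (zpowers c).comap f with hT
    have hBT : B ≤ normalizer (T : Set G) := fun b hb => by
      rw [mem_normalizer_iff]
      obtain ⟨a, ha⟩ := hBle hb
      intro g
      rw [hT, mem_comap, mem_comap, map_mul, map_mul, map_inv, ← ha]
      constructor
      · intro hg
        obtain ⟨i, hi⟩ := mem_zpowers_iff.1 hg
        rw [← hi, ((hcomm a).symm.zpow_right i).eq, mul_inv_cancel_right]
        exact zpow_mem (mem_zpowers c) i
      · intro hg
        obtain ⟨i, hi⟩ := mem_zpowers_iff.1 hg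
        have e : f g = (ψ a)⁻¹ * c ^ i * ψ a := by rw [hi]; group
        rw [e, mul_assoc, ((hcomm a).zpow_left i).eq, inv_mul_cancel_left]
        exact zpow_mem (mem_zpowers c) i
    have hTp : IsPGroup p T := by
      refine IsPGroup.comap_of_ker_isPGroup (IsPGroup.of_card (n := 1) ?_) f hN
      rw [Nat.card_zpowers, pow_one]
      exact orderOf_eq_prime hcp hc
    obtain ⟨s, hs⟩ := hTp.exists_card_eq
    have hBT' : (Nat.card B).Coprime (Nat.card T) := by
      rw [hBcard, hs]; exact Nat.Coprime.pow_right s hcop.symm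
    haveI := hTp.isNilpotent
    have hmem : c ∈ T.map f ⊓ centralizer ((B.map f : Subgroup A) : Set A) := by
      refine mem_inf.2 ⟨⟨x, by rw [hT, SetLike.mem_coe, mem_comap, hx]; exact mem_zpowers c, hx⟩, ?_⟩
      rw [mem_centralizer_iff]
      rintro _ ⟨b, hb, rfl⟩
      obtain ⟨a, ha⟩ := hBle hb
      rw [← ha]
      exact (hcomm a).symm.eq
    rw [← Cfsg.Lib.Coprime.map_inf_centralizer_eq f hBT hBT' (Or.inr inferInstance)] at hmem
    obtain ⟨y, hy, hyc⟩ := hmem
    obtain ⟨hyT, hyB⟩ := mem_inf.1 hy
    have hBS : B.map f = ψ.range := by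
      rw [← map_comap_eq_self_of_surjective hf ψ.range, ← hBsup, Subgroup.map_sup,
        (Subgroup.map_eq_bot_iff _).2 le_rfl, bot_sup_eq]
    obtain ⟨E, hE, hES⟩ := exists_perfect_preimage (f := (f.comp B.subtype).rangeRestrict)
      (f.comp B.subtype).rangeRestrict_surjective (S := (⊤ : Subgroup (f.comp B.subtype).range)) (by
        have e : ((f.comp B.subtype).range : Subgroup A) = ψ.range := by
          rw [MonoidHom.range_eq_map, ← map_map, ← MonoidHom.range_eq_map, range_subtype, hBS]
        refine map_injective (Subgroup.subtype_injective _) ?_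
        rw [map_commutator, ← MonoidHom.range_eq_map, range_subtype, e, hψp])
    refine not_isSolvable_of_le (D := E.map B.subtype) (H := centralizer ({y} : Set G))
      (by rw [← map_commutator, hE]) (fun e => hψ1 ?_) ?_ (hgood y (hlift hyc).1 (hlift hyc).2)
    · rw [(Subgroup.map_eq_bot_iff_of_injective _ B.subtype_injective)] at e
      have h1 := congrArg (Subgroup.map (f.comp B.subtype).range.subtype) hES
      rw [e, Subgroup.map_bot, Subgroup.map_bot, ← MonoidHom.range_eq_map, range_subtype,
        MonoidHom.range_eq_map, ← map_map, ← MonoidHom.range_eq_map, range_subtype, hBS] at h1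
      exact h1.symm
    · refine (map_subtype_le E).trans fun b hb => ?_
      rw [mem_centralizer_singleton_iff]
      exact mem_centralizer_iff.1 hyB b hb
  · by_cases hZ : f.ker ≤ center G
    · refine hfix (hlift hx).1 (hlift hx).2 hψ1 hψp fun D hD d hd => hZ ?_
      obtain ⟨a, ha⟩ : f d ∈ ψ.range := hD ▸ mem_map_of_mem f hd
      rw [MonoidHom.mem_ker, map_commutatorElement, commutatorElement_eq_one_iff_mul_comm, hx, ← ha]
      exact (hcomm a).symm.eq
    obtain ⟨W, ⟨hWn, hWN, hWZ⟩, hmin⟩ :=
      (Set.toFinite {W : Subgroup G | W.Normal ∧ W ≤ f.ker ∧ ¬ W ≤ center G}).exists_minimal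
        ⟨f.ker, inferInstance, le_rfl, hZ⟩
    haveI : W.Normal := hWn
    have hsmall : ∀ U : Subgroup G, U.Normal → U ≤ W → U ≠ W → U ≤ center G := fun U hU hUW hne => by
      by_contra hUZ
      exact hne (le_antisymm hUW (hmin ⟨hU, hUW.trans hWN, hUZ⟩ hUW))
    -- commutators with the kernel are central
    have hWN' : ⁅W, f.ker⁆ ≤ center G := by
      refine hsmall _ inferInstance (commutator_le_left _ _) fun e => hWZ ?_
      haveI := hN.isNilpotent
      have hl : ∀ n, W.subgroupOf f.ker ≤ (⊤ : Subgroup f.ker).lowerCentralSeries n := by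
        intro n
        induction n with
        | zero => simp
        | succ n ih =>
          have h1 : ⁅W.subgroupOf f.ker, (⊤ : Subgroup f.ker)⁆ = W.subgroupOf f.ker := by
            refine map_injective (Subgroup.subtype_injective _) ?_
            rw [map_commutator, subgroupOf_map_subtype, inf_eq_left.2 hWN, ← MonoidHom.range_eq_map, range_subtype, e]
          rw [← h1, Subgroup.lowerCentralSeries_succ]
          exact commutator_mono ih le_rfl
      obtain ⟨n, hn⟩ := Subgroup.nilpotent_iff_lowerCentralSeries.1 (inferInstance : Group.IsNilpotent f.ker)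
      intro w hw
      have : (⟨w, hWN hw⟩ : f.ker) ∈ (⊤ : Subgroup f.ker).lowerCentralSeries n := hl n hw
      rw [hn, mem_bot] at this
      have h1 : w = 1 := congrArg Subtype.val this
      rw [h1]
      exact one_mem _
    let Z : Subgroup W := (center G).subgroupOf W
    letI : CommGroup (W ⧸ Z) := { (inferInstance : Group (W ⧸ Z)) with
      mul_comm := fun a b => QuotientGroup.induction_on a fun a => QuotientGroup.induction_on b fun b => by
        rw [← QuotientGroup.mk_mul, ← QuotientGroup.mk_mul, QuotientGroup.eq]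
        show ((a * b)⁻¹ * (b * a) : W).1 ∈ center G
        have h := hWN' (commutator_mem_commutator (inv_mem b.2) (inv_mem (hWN a.2)))
        rw [commutatorElement_def] at h
        simpa [mul_assoc] using h }
    haveI : Nontrivial (W ⧸ Z) := by
      rw [QuotientGroup.nontrivial_iff]
      intro e
      exact hWZ (subgroupOf_eq_top.1 e)
    let ρ₀ : G →* MulAut (W ⧸ Z) :=
      { toFun := fun g => QuotientGroup.congr Z Z (MulAut.conjNormal g) (by
          ext w
          simp only [mem_map, MulEquiv.coe_toMonoidHom]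
          constructor
          · rintro ⟨v, hv, rfl⟩
            show g * v * g⁻¹ ∈ center G
            exact (inferInstance : (center G).Normal).conj_mem _ hv g
          · intro hw
            refine ⟨(MulAut.conjNormal g).symm w, ?_, MulEquiv.apply_symm_apply _ _⟩
            rw [mem_subgroupOf, MulAut.conjNormal_symm_apply]
            simpa using (inferInstance : (center G).Normal).conj_mem _ hw g⁻¹)
        map_one' := MulEquiv.ext fun q => QuotientGroup.induction_on q fun w => by simp
        map_mul' := fun g h => MulEquiv.ext fun q => QuotientGroup.induction_on q fun w => by simp }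
    have hρ₀ : ∀ (g : G) (w : W), ρ₀ g (QuotientGroup.mk w) = QuotientGroup.mk (MulAut.conjNormal g w) :=
      fun g w => rfl
    -- the exponent
    have hexp : ∀ v : W ⧸ Z, v ^ p = 1 := by
      let P : Subgroup (W ⧸ Z) := (powMonoidHom p).range
      let U : Subgroup G := (P.comap (QuotientGroup.mk' Z)).map W.subtype
      have hU : U.Normal := ⟨by
        rintro _ ⟨w, ⟨v, hv⟩, rfl⟩ g
        refine ⟨MulAut.conjNormal g w, ⟨ρ₀ g v, ?_⟩, rfl⟩
        rw [powMonoidHom_apply] at hv ⊢
        rw [← map_pow, hv]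
        rfl⟩
      have hne : U ≠ W := by
        intro e
        have hP : P = ⊤ := by
          rw [eq_top_iff]
          intro v _
          obtain ⟨w, rfl⟩ := QuotientGroup.mk_surjective v
          obtain ⟨w', hw', e'⟩ : (w : G) ∈ U := e.symm ▸ w.2
          obtain rfl : w' = w := Subtype.ext e'
          exact hw'
        have hinj : Function.Injective (powMonoidHom p : W ⧸ Z →* W ⧸ Z) :=
          Finite.injective_iff_surjective.2 (MonoidHom.range_eq_top.1 hP)
        obtain ⟨v, hv⟩ := exists_ne (1 : W ⧸ Z)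
        obtain ⟨k, hk⟩ := ((hN.to_le hWN).to_quotient Z) v
        apply hv
        clear hv
        induction k generalizing v with
        | zero => simpa using hk
        | succ k ih =>
          refine hinj ((ih (v ^ p) ?_).trans (map_one (powMonoidHom p)).symm)
          rw [← pow_mul, ← pow_succ', hk]
      have hUZ := hsmall U hU (map_subtype_le _) hne
      intro v
      obtain ⟨w, rfl⟩ := QuotientGroup.mk_surjective v
      rw [← QuotientGroup.mk_pow, QuotientGroup.eq_one_iff]
      refine hUZ ⟨w ^ p, ⟨QuotientGroup.mk w, ?_⟩, rfl⟩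
      rfl
    have hkerρ : f.ker ≤ ρ₀.ker := fun g hg => by
      refine MulEquiv.ext fun q => QuotientGroup.induction_on q fun w => ?_
      rw [hρ₀, MulAut.one_apply, QuotientGroup.eq]
      show ((MulAut.conjNormal g w)⁻¹ * w : W).1 ∈ center G
      have h := hWN' (commutator_mem_commutator w.2 hg)
      rw [commutatorElement_def] at h
      simp only [Subgroup.coe_mul, Subgroup.coe_inv, MulAut.conjNormal_apply]
      generalize (w : G) = w' at h ⊢
      have e : (g * w' * g⁻¹)⁻¹ * w' = w'⁻¹ * (w' * g * w'⁻¹ * g⁻¹) * w'⁻¹⁻¹ := by group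
      rw [e]
      exact (inferInstance : (center G).Normal).conj_mem _ h w'⁻¹
    let ρ : A →* MulAut (W ⧸ Z) := f.liftOfSurjective hf ⟨ρ₀, hkerρ⟩
    have hρ : ∀ g, ρ (f g) = ρ₀ g := fun g => f.liftOfRightInverse_comp_apply _ _ ⟨ρ₀, hkerρ⟩ g
    obtain ⟨v, hv, S, hS1, hS, hfixv⟩ := hmod (W ⧸ Z) ρ hexp
    obtain ⟨w, rfl⟩ := QuotientGroup.mk_surjective v
    refine hfix (x := (w : G)) (fun h => hv ((QuotientGroup.eq_one_iff w).2 h)) ?_ hS1 hS fun D hD d hd => ?_
    · obtain ⟨k, hk⟩ := hN ⟨w, hWN w.2⟩
      obtain ⟨j, -, hj⟩ := (Nat.dvd_prime_pow hp.out).1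
        (orderOf_dvd_of_pow_eq_one (show (w : G) ^ p ^ k = 1 by simpa using congrArg Subtype.val hk))
      exact ⟨j, hj⟩
    · have h := hfixv (f d) (hD ▸ mem_map_of_mem f hd)
      rw [hρ, hρ₀, QuotientGroup.eq_iff_div_mem] at h
      have h' : ((MulAut.conjNormal d w : W) : G) / (w : G) ∈ center G := h
      rwa [MulAut.conjNormal_apply, div_eq_mul_inv, ← commutatorElement_def] at h'

/-- There is no surjection to `A`. -/
theorem not_good {p : ℕ} [hp : Fact p.Prime] {A : Type} [Group A] [Finite G] (f : G →* A)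
    (hf : Function.Surjective f) (hA : center A = ⊥) {c : A} (hc : c ≠ 1) (hcp : c ^ p = 1)
    (ψ : Alt 5 →* A) (hψ : Function.Injective ψ) (hcomm : ∀ a, Commute c (ψ a))
    (hcase : Nat.Coprime p 60 ∨ HasPerfectFixed.{u} p A) : ¬ Good p G := by
  classical
  suffices ∀ (n : ℕ) (H : Type u) [Group H] [Finite H] (g : H →* A), Nat.card H = n →
      Function.Surjective g → ¬ Good p H from this _ G f rfl hf
  intro n
  induction n using Nat.strong_induction_on with
  | _ n ih =>
    intro H _ _ g hn hg hgood
    subst hn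
    -- no proper subgroup maps onto
    have hsub : ∀ M : Subgroup H, M.map g = ⊤ → M = ⊤ := fun M hM => by
      by_contra hne
      have hlt : Nat.card M < Nat.card H :=
        lt_of_le_of_ne (card_le_card_group M) fun e => hne (eq_top_of_card_eq M e)
      refine ih _ hlt M (g.comp M.subtype) rfl (MonoidHom.range_eq_top.1 ?_) (hgood.subgroup M)
      rw [MonoidHom.range_eq_map, ← map_map, ← MonoidHom.range_eq_map, range_subtype, hM]
    have hfrat : g.ker ≤ frattini H := by
      unfold frattini Order.radical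
      refine le_iInf₂ ?_
      intro M hM
      by_contra hle
      have h1 : M ⊔ g.ker = ⊤ := hM.2 _ (lt_of_le_of_ne le_sup_left fun e => hle (e ▸ le_sup_right))
      refine hM.1 (hsub M ?_)
      have h2 := congrArg (Subgroup.map g) h1
      rwa [Subgroup.map_sup, (Subgroup.map_eq_bot_iff _).2 le_rfl, sup_bot_eq, map_top_of_surjective g hg] at h2
    haveI : Group.IsNilpotent (frattini H) := frattini_nilpotent
    haveI : Group.IsNilpotent g.ker := Group.nilpotent_of_mulEquiv (subgroupOfEquivOfLe hfrat)
    refine not_good_of_pGroup_ker g hg ?_ hA hc hcp ψ hψ hcomm hcase hgood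
    -- the kernel is a group of order a power of the prime
    refine IsPGroup.of_card (n := (Nat.card g.ker).factorization p) ?_
    have h := Nat.eq_prime_pow_of_unique_prime_dvd (p := p) (n := Nat.card g.ker) Nat.card_pos.ne' fun {q} hq hqd => ?_
    · have h2 := congrArg (fun m => m.factorization p) h
      simp only [hp.out.factorization_pow, Finsupp.single_eq_same] at h2
      rwa [h2]
    by_contra hqp
    haveI := Fact.mk hq
    let Q : Sylow q g.ker := default
    haveI : (Q : Subgroup g.ker).Normal :=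
      Sylow.normal_of_normalizerCondition (Group.normalizerCondition_of_isNilpotent) Q
    haveI := Q.characteristic_of_normal inferInstance
    let O : Subgroup H := (Q : Subgroup g.ker).map g.ker.subtype
    haveI : O.Normal := ConjAct.normal_of_characteristic_of_normal
    have hcard : Nat.card O = Nat.card Q := card_map_of_injective g.ker.subtype_injective
    obtain ⟨t, ht⟩ := Q.isPGroup'.exists_card_eq
    have hQ1 : 1 < Nat.card Q :=
      lt_of_lt_of_le hq.one_lt (Nat.le_of_dvd Nat.card_pos (Q.dvd_card_of_dvd_card hqd))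
    have hlt : Nat.card (H ⧸ O) < Nat.card H := by
      rw [card_eq_card_quotient_mul_card_subgroup O, hcard]
      exact lt_mul_of_one_lt_right Nat.card_pos hQ1
    refine ih _ hlt (H ⧸ O) (QuotientGroup.lift O g (fun o ho => (map_subtype_le _ ho : o ∈ g.ker))) rfl
      (fun a => (hg a).imp' QuotientGroup.mk fun _ h => h) (hgood.quotient O ?_)
    rw [hcard, ht]
    exact Nat.Coprime.pow_left t ((Nat.coprime_primes hq hp.out).2 hqp)

end Cfsg.Lib.AltFixed
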