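import Cfsg.Agent.Lib.AltFixed.Module
import Cfsg.Agent.Lib.AltFixed.Reduce
import Cfsg.Prelude.Def_LocalEven

/-!
# Alternating sections when centralisers are soluble

If `p ≠ 3` and the centralisers of the noncentral `p`-elements are soluble, an alternating section of degree at
least five has degree at most `p + 4`, or `8` if `p = 2`.
-/

set_option autoImplicit false

namespace Cfsg.Lib.AltFixed

open Subgroup

universe u

theorem hasPerfectFixed_two : HasPerfectFixed.{u} 2 (Alt 9) :=
  fun _ _ _ _ ρ hρ => exists_perfect_fixed_two ρ hρ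

theorem hasPerfectFixed_five : HasPerfectFixed.{u} 5 (Alt 10) :=
  fun _ _ _ _ ρ hρ => exists_perfect_fixed_five ρ hρ

theorem case_of_prime {p : ℕ} [Fact p.Prime] (hp3 : p ≠ 3) :
    Nat.Coprime p 60 ∨ HasPerfectFixed.{u} p (Alt (deg₀ p)) := by
  by_cases h2 : p = 2
  · subst h2; exact Or.inr hasPerfectFixed_two
  by_cases h5 : p = 5
  · subst h5; exact Or.inr hasPerfectFixed_five
  refine Or.inl (((Fact.out : p.Prime).coprime_iff_not_dvd).2 fun h => ?_)
  have hp := (Fact.out : p.Prime)
  have hle := Nat.le_of_dvd (by norm_num) h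
  rcases (show p ∣ 2 ∨ p ∣ 3 ∨ p ∣ 5 by
    rw [show 60 = 2 * 2 * 3 * 5 by norm_num, hp.dvd_mul, hp.dvd_mul, hp.dvd_mul] at h
    tauto) with h | h | h
  exacts [h2 ((Nat.prime_dvd_prime_iff_eq hp Nat.prime_two).1 h),
    hp3 ((Nat.prime_dvd_prime_iff_eq hp Nat.prime_three).1 h),
    h5 ((Nat.prime_dvd_prime_iff_eq hp Nat.prime_five).1 h)]

/-- The bound on the degree of an alternating section. -/
theorem degree_le {G : Type u} [Group G] [Finite G] {p : ℕ} [Fact p.Prime] (hp3 : p ≠ 3) (h : Good p G)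
    (d : ℕ) (hinv : Cfsg.Involves (alternatingGroup (Fin d)) G) : d < deg₀ p := by
  by_contra hle
  rw [not_lt] at hle
  obtain ⟨c, ψ, hψ, hc, hcp, hcomm⟩ := exists_commuting p
  obtain ⟨K, R, hR, ⟨e⟩⟩ := hinv
  haveI := hR
  let F : K →* Alt d := e.toMonoidHom.comp (QuotientGroup.mk' (R.subgroupOf K))
  have hF : Function.Surjective F := e.surjective.comp (QuotientGroup.mk'_surjective _)
  let j := altHom (Fin.castLEEmb hle)
  let M : Subgroup K := j.range.comap F
  let f : M →* Alt (deg₀ p) :=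
    (MonoidHom.ofInjective (altHom_injective (Fin.castLEEmb hle))).symm.toMonoidHom.comp
      ((F.comp M.subtype).codRestrict j.range fun m => m.2)
  have hf : Function.Surjective f := by
    refine (MonoidHom.ofInjective (altHom_injective (Fin.castLEEmb hle))).symm.surjective.comp ?_
    rintro ⟨a, ha⟩
    obtain ⟨k, rfl⟩ := hF a
    exact ⟨⟨k, ha⟩, rfl⟩
  exact not_good (A := Alt (deg₀ p)) f hf
    (alternatingGroup.center_eq_bot (by rw [Nat.card_fin]; have := five_le_deg₀ p; omega))
    hc hcp ψ hψ hcomm (case_of_prime hp3) ((h.subgroup K).subgroup M)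

end Cfsg.Lib.AltFixed
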