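import Cfsg.Agent.Lib.AltFixed.Cert
import Cfsg.Agent.Lib.AltFixed.Perfect
import Cfsg.Agent.Lib.AltFixed.Data.GroupsTwo
import Cfsg.Agent.Lib.AltFixed.Data.GroupsFive
import Cfsg.Agent.Lib.AltFixed.Data.Two0
import Cfsg.Agent.Lib.AltFixed.Data.Two1
import Cfsg.Agent.Lib.AltFixed.Data.Two2
import Cfsg.Agent.Lib.AltFixed.Data.Two3
import Cfsg.Agent.Lib.AltFixed.Data.Two4
import Cfsg.Agent.Lib.AltFixed.Data.Five0
import Cfsg.Agent.Lib.AltFixed.Data.Five1
import Cfsg.Agent.Lib.AltFixed.Data.Five2
import Cfsg.Agent.Lib.AltFixed.Data.Five3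
import Mathlib.GroupTheory.Perm.Cycle.Type

/-!
# Vectors with non-soluble stabilisers

A nontrivial module for `A₉` in characteristic two, or for `A₁₀` in characteristic five, has a nonzero vector fixed
by a nontrivial perfect subgroup.
-/

set_option autoImplicit false

namespace Cfsg.Lib.AltFixed

open Subgroup Data

universe u

variable {n : ℕ} {V : Type u} [CommGroup V] [Finite V] {ρ : Alt n →* MulAut V} {p : ℕ}

/-- A nonidentity vector is fixed by all elements of a list. -/
def HasFixed (ρ : Alt n →* MulAut V) (l : List (Alt n)) : Prop :=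
  ∃ w : V, w ≠ 1 ∧ ∀ s ∈ l, ρ s w = w

theorem hasFixed_nil [Nontrivial V] : HasFixed ρ [] :=
  (exists_ne (1 : V)).imp fun _ h => ⟨h, fun s hs => by cases hs⟩

/-- An element of order a power of `p` that normalises the group of a list extends a fixed vector. -/
theorem HasFixed.step [Fact p.Prime] (hn : n ≤ 10) (hp : ∀ v : V, v ^ p = 1) {l : List (Alt n)} {s : Alt n}
    {k : ℕ} (h : HasFixed ρ l) {c : List ℕ} {e : ℕ} (hl : l.map encA = c) (hs : encA s = e)
    (hord : evalCode [e] (List.replicate (p ^ k) 0) = idN) (ws : List (List ℕ))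
    (hnorm : (List.range c.length).all
      (fun i => compN (c.getD i idN) e == compN e (evalCode c (ws.getD i []))) = true) :
    HasFixed ρ (l ++ [s]) := by
  classical
  subst hl hs
  obtain ⟨w, hw1, hw⟩ := h
  simp only [List.all_eq_true, List.mem_range, beq_iff_eq, List.length_map] at hnorm
  let W : Subgroup V :=
    { carrier := {x | ∀ t ∈ l, ρ t x = x}
      one_mem' := fun t _ => map_one (ρ t)
      mul_mem' := fun {x y} hx hy t ht => by rw [map_mul, hx t ht, hy t ht]
      inv_mem' := fun {x} hx t ht => by rw [map_inv, hx t ht] }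
  have hWw : ∀ (ws : List ℕ) (x : V), x ∈ W → ρ (evalWord l ws) x = x := by
    intro ws x hx
    induction ws with
    | nil => exact DFunLike.congr_fun (map_one ρ) x
    | cons j ws ih =>
      rw [show evalWord l (j :: ws) = l.getD j 1 * evalWord l ws from List.prod_cons, map_mul, MulAut.mul_apply, ih]
      rw [List.getD_eq_getElem?_getD]
      by_cases hj : j < l.length
      · rw [List.getElem?_eq_getElem hj, Option.getD_some]
        exact hx _ (List.getElem_mem hj)
      · rw [List.getElem?_eq_none (by omega), Option.getD_none, map_one]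
        rfl
  have hinv : ∀ x ∈ W, ρ s x ∈ W := by
    intro x hx t ht
    obtain ⟨i, hi, rfl⟩ := List.getElem_of_mem ht
    have e := hnorm i hi
    rw [getD_map_encA rfl, List.getD_eq_getElem?_getD, List.getElem?_eq_getElem hi, Option.getD_some,
      ← encA_evalWord hn rfl, encA_mul hn, encA_mul hn] at e
    rw [← MulAut.mul_apply, ← map_mul, encA_injective hn e, map_mul, MulAut.mul_apply, hWw _ x hx]
  have hinj : Function.Injective fun x : W => (⟨ρ s x, hinv x x.2⟩ : W) := fun a b h =>
    Subtype.ext ((ρ s).injective (congrArg Subtype.val h))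
  let σ : Equiv.Perm W := Equiv.ofBijective _ hinj.bijective_of_finite
  have hσ : ∀ x : W, (σ x : V) = ρ s x := fun x => rfl
  have hsp : s ^ p ^ k = 1 := by
    refine encA_injective hn ?_
    rw [encA_one, ← hord, show s ^ p ^ k = evalWord [s] (List.replicate (p ^ k) 0) by simp [evalWord]]
    exact encA_evalWord hn rfl _
  have hpow : ∀ (m : ℕ) (x : W), ((σ ^ m) x : V) = ρ (s ^ m) x := by
    intro m x
    induction m with
    | zero => simp
    | succ m ih => rw [pow_succ', pow_succ', Equiv.Perm.mul_apply, hσ, ih, map_mul, MulAut.mul_apply]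
  haveI := Fintype.ofFinite W
  have hcard : p ∣ Fintype.card W := by
    have h1 : orderOf (⟨w, hw⟩ : W) = p :=
      orderOf_eq_prime (Subtype.ext (hp w)) fun e => hw1 (congrArg Subtype.val e)
    exact h1 ▸ orderOf_dvd_card
  obtain ⟨b, hb, hb1⟩ := Equiv.Perm.exists_fixed_point_of_prime' hcard
    (Equiv.ext fun x => Subtype.ext (by rw [hpow, hsp, map_one]; rfl) : σ ^ p ^ k = 1)
    (Subtype.ext (map_one (ρ s)) : σ (1 : W) = 1)
  refine ⟨b, fun e => hb1 (Subtype.ext e), fun t ht => ?_⟩
  rcases List.mem_append.1 ht with ht | ht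
  · exact b.2 t ht
  · rw [List.mem_singleton.1 ht, ← hσ, hb]

/-- Without vectors fixed by nontrivial perfect subgroups, such a subgroup fixes only the identity. -/
theorem killed_of_perfect {m : ℕ} {ρ : Alt m →* MulAut V} (hm : m ≤ 10)
    (hno : ¬ ∃ w : V, w ≠ 1 ∧ ∃ S : Subgroup (Alt m), S ≠ ⊥ ∧ ⁅S, S⁆ = S ∧ ∀ s ∈ S, ρ s w = w)
    (l : List (Alt m)) {g : List ℕ} {cert : List (List (List ℕ × List ℕ × List ℕ × List ℕ))}
    (hl : l.map encA = g) (h : perfectOK g cert = true) : Killed ρ l := by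
  intro w hw
  by_contra hw1
  obtain ⟨h1, h2⟩ := perfect_of_check l hm hl h
  refine hno ⟨w, hw1, _, h2, h1, fun s hs => ?_⟩
  induction hs using Subgroup.closure_induction with
  | mem x hx => exact hw x hx
  | one => rw [map_one]; rfl
  | mul x y _ _ hx hy => rw [map_mul, MulAut.mul_apply, hy, hx]
  | inv x _ hx => rw [map_inv]; exact (MulEquiv.symm_apply_eq _).2 hx.symm

variable [Nontrivial V]

/-- Characteristic two. -/
theorem exists_perfect_fixed_two (ρ : Alt 9 →* MulAut V) (hp : ∀ v : V, v ^ 2 = 1) :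
    ∃ w : V, w ≠ 1 ∧ ∃ S : Subgroup (Alt 9), S ≠ ⊥ ∧ ⁅S, S⁆ = S ∧ ∀ s ∈ S, ρ s w = w := by
  by_contra hno
  have K := @killed_of_perfect _ _ _ 9 ρ (by norm_num) hno
  have g0 := K g2x0 g2x0_enc g2x0_perfect
  have g1 := K g2x1 g2x1_enc g2x1_perfect
  have g2 := K g2x2 g2x2_enc g2x2_perfect
  have g3 := K g2x3 g2x3_enc g2x3_perfect
  have g6 := K g2x6 g2x6_enc g2x6_perfect
  have g8 := K g2x8 g2x8_enc g2x8_perfect
  have g9 := K g2x9 g2x9_enc g2x9_perfect
  have g11 := K g2x11 g2x11_enc g2x11_perfect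
  have r4 : Killed ρ r2x4 := Stage.killed_of_check two0 (by norm_num) ρ hp a2x5 r2x4
    [g2x0, g2x1, g2x2, g2x3] a2x5_enc r2x4_enc
    (by simp only [List.map_cons, List.map_nil, g2x0_enc, g2x1_enc, g2x2_enc, g2x3_enc]; rfl)
    (by simp only [List.forall_mem_cons, List.not_mem_nil, false_implies, implies_true, and_true]
        exact ⟨g0, g1, g2, g3⟩) two0_check
  have r7 : Killed ρ r2x7 := Stage.killed_of_check two1 (by norm_num) ρ hp a2x5 r2x7
    [g2x0, g2x1, g2x6, g2x2, g2x3] a2x5_enc r2x7_enc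
    (by simp only [List.map_cons, List.map_nil, g2x0_enc, g2x1_enc, g2x6_enc, g2x2_enc, g2x3_enc]; rfl)
    (by simp only [List.forall_mem_cons, List.not_mem_nil, false_implies, implies_true, and_true]
        exact ⟨g0, g1, g6, g2, g3⟩) two1_check
  have r10 : Killed ρ r2x10 := Stage.killed_of_check two2 (by norm_num) ρ hp a2x5 r2x10
    [g2x0, g2x8, g2x9, g2x2, r2x4] a2x5_enc r2x10_enc
    (by simp only [List.map_cons, List.map_nil, g2x0_enc, g2x8_enc, g2x9_enc, g2x2_enc, r2x4_enc]; rfl)
    (by simp only [List.forall_mem_cons, List.not_mem_nil, false_implies, implies_true, and_true]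
        exact ⟨g0, g8, g9, g2, r4⟩) two2_check
  have r12 : Killed ρ r2x12 := Stage.killed_of_check two3 (by norm_num) ρ hp a2x5 r2x12
    [g2x1, g2x11, g2x9, g2x2, r2x4] a2x5_enc r2x12_enc
    (by simp only [List.map_cons, List.map_nil, g2x1_enc, g2x11_enc, g2x9_enc, g2x2_enc, r2x4_enc]; rfl)
    (by simp only [List.forall_mem_cons, List.not_mem_nil, false_implies, implies_true, and_true]
        exact ⟨g1, g11, g9, g2, r4⟩) two3_check
  have r13 : Killed ρ r2x13 := Stage.killed_of_check two4 (by norm_num) ρ hp a2x5 r2x13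
    [g2x3, r2x7, r2x10, r2x12] a2x5_enc r2x13_enc
    (by simp only [List.map_cons, List.map_nil, g2x3_enc, r2x7_enc, r2x10_enc, r2x12_enc]; rfl)
    (by simp only [List.forall_mem_cons, List.not_mem_nil, false_implies, implies_true, and_true]
        exact ⟨g3, r7, r10, r12⟩) two4_check
  -- a two-group has a fixed vector
  haveI : Fact (Nat.Prime 2) := ⟨Nat.prime_two⟩
  have hP := r2x13_enc
  unfold r2x13 at hP r13
  simp only [List.map_cons, List.map_nil, List.cons.injEq, and_true] at hP
  obtain ⟨e0, e1, e2, e3, e4, e5⟩ := hP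
  have f0 := (hasFixed_nil (ρ := ρ)).step (k := 1) (by norm_num) hp rfl e0 (by decide +kernel) [] (by decide +kernel)
  have f1 := f0.step (k := 1) (by norm_num) hp (congrArg (fun x => [x]) e0) e1 (by decide +kernel) [[0]]
    (by decide +kernel)
  have f2 := f1.step (k := 1) (by norm_num) hp (congrArg₂ (fun x y => [x, y]) e0 e1) e2 (by decide +kernel)
    [[0], [1, 0]] (by decide +kernel)
  have f3 := f2.step (k := 1) (c := [0x9876542301, 0x9876541032, 0x9876453201]) (by norm_num) hp (by simp [e0, e1, e2]) e3 (by decide +kernel)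
    [[0], [1], [2]] (by decide +kernel)
  have f4 := f3.step (k := 1) (c := [0x9876542301, 0x9876541032, 0x9876453201, 0x9867453210]) (by norm_num) hp (by simp [e0, e1, e2, e3]) e4
    (by decide +kernel) [[0], [1], [3, 2], [3]] (by decide +kernel)
  have f5 := f4.step (k := 1) (c := [0x9876542301, 0x9876541032, 0x9876453201, 0x9867453210, 0x9854763210]) (by norm_num) hp (by simp [e0, e1, e2, e3, e4]) e5
    (by decide +kernel) [[3], [4], [2], [0], [1]] (by decide +kernel)
  obtain ⟨w, hw1, hw⟩ := f5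
  exact hw1 (r13 w hw)

/-- Characteristic five. -/
theorem exists_perfect_fixed_five (ρ : Alt 10 →* MulAut V) (hp : ∀ v : V, v ^ 5 = 1) :
    ∃ w : V, w ≠ 1 ∧ ∃ S : Subgroup (Alt 10), S ≠ ⊥ ∧ ⁅S, S⁆ = S ∧ ∀ s ∈ S, ρ s w = w := by
  by_contra hno
  have K := @killed_of_perfect _ _ _ 10 ρ le_rfl hno
  have r3 : Killed ρ r5x3 := Stage.killed_of_check five0 le_rfl ρ hp a5x4 r5x3 [g5x0, g5x1, g5x2]
    a5x4_enc r5x3_enc
    (by simp only [List.map_cons, List.map_nil, g5x0_enc, g5x1_enc, g5x2_enc]; rfl)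
    (by simp only [List.forall_mem_cons, List.not_mem_nil, false_implies, implies_true, and_true]
        exact ⟨K g5x0 g5x0_enc g5x0_perfect, K g5x1 g5x1_enc g5x1_perfect, K g5x2 g5x2_enc g5x2_perfect⟩)
    five0_check
  have r8 : Killed ρ r5x8 := Stage.killed_of_check five1 le_rfl ρ hp a5x9 r5x8 [g5x5, g5x6, g5x7, r5x3]
    a5x9_enc r5x8_enc
    (by simp only [List.map_cons, List.map_nil, g5x5_enc, g5x6_enc, g5x7_enc, r5x3_enc]; rfl)
    (by simp only [List.forall_mem_cons, List.not_mem_nil, false_implies, implies_true, and_true]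
        exact ⟨K g5x5 g5x5_enc g5x5_perfect, K g5x6 g5x6_enc g5x6_perfect, K g5x7 g5x7_enc g5x7_perfect, r3⟩)
    five1_check
  have r12 : Killed ρ r5x12 := Stage.killed_of_check five2 le_rfl ρ hp a5x13 r5x12 [g5x10, g5x11, r5x8]
    a5x13_enc r5x12_enc
    (by simp only [List.map_cons, List.map_nil, g5x10_enc, g5x11_enc, r5x8_enc]; rfl)
    (by simp only [List.forall_mem_cons, List.not_mem_nil, false_implies, implies_true, and_true]
        exact ⟨K g5x10 g5x10_enc g5x10_perfect, K g5x11 g5x11_enc g5x11_perfect, r8⟩) five2_check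
  haveI : Fact (Nat.Prime 5) := ⟨Nat.prime_five⟩
  have e15 := r5x15_enc
  have e12 := r5x12_enc
  have e14 := r5x14_enc
  unfold r5x15 at e15
  unfold r5x12 at e12 r12
  unfold r5x14 at e14
  simp only [List.map_cons, List.map_nil, List.cons.injEq, and_true] at e15 e12
  -- some nonidentity vector is fixed by a three-cycle
  have h14 : HasFixed ρ r5x14 := by
    by_contra hc
    have r15 : Killed ρ r5x15 := Stage.killed_of_check five3 le_rfl ρ hp a5x16 r5x15 [r5x14]
      a5x16_enc r5x15_enc (by simp only [List.map_cons, List.map_nil, r5x14_enc]; rfl)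
      (by simp only [List.forall_mem_cons, List.not_mem_nil, false_implies, implies_true, and_true]
          exact fun w hw => by_contra fun hw1 => hc ⟨w, hw1, hw⟩) five3_check
    obtain ⟨w, hw1, hw⟩ := (hasFixed_nil (ρ := ρ)).step (k := 1) le_rfl hp rfl e15 (by decide +kernel) []
      (by decide +kernel)
    exact hw1 (r15 w hw)
  unfold r5x14 at h14
  obtain ⟨w, hw1, hw⟩ := h14.step (k := 1) le_rfl hp e14 e12.1 (by decide +kernel) [[0]] (by decide +kernel)
  refine hw1 (r12 w fun s hs => hw s ?_)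
  simp only [List.mem_append, List.mem_cons, List.not_mem_nil, or_false] at hs ⊢
  tauto

end Cfsg.Lib.AltFixed
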